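import Groth.Prelude.Def_W4c3tautjacobianRel
import Mathlib.RingTheory.MvPolynomial.EulerIdentity
import Mathlib.Algebra.MvPolynomial.CommRing
import Mathlib.Tactic.LinearCombination

/-!
The operators `F` and `E` of the formal relation ring: bidegrees and the commutator.
-/

open MvPolynomial W4c3tautjacobian

namespace Groth.Agent.TautJac

variable {g : ℕ}

/-- The bidegree in the integers. -/
def wz (g : ℕ) : Var g → ℤ × ℤ := fun v => ((((wt g v).1 : ℕ) : ℤ), (((wt g v).2 : ℕ) : ℤ))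

/-- The bidegree of an exponent. -/
lemma weight_wz (d : Var g →₀ ℕ) :
    Finsupp.weight (wz g) d =
      ((((Finsupp.weight (wt g) d).1 : ℕ) : ℤ), (((Finsupp.weight (wt g) d).2 : ℕ) : ℤ)) := by
  induction d using Finsupp.induction_linear with
  | zero => simp; rfl
  | add a b ha hb => rw [map_add, map_add, ha, hb]; simp
  | single v n => simp [Finsupp.weight_apply, wz]

lemma hom_of_nat {P : RelRing g} {a b : ℕ} (h : IsWeightedHomogeneous (wt g) P ((a, b) : ℕ × ℕ)) :
    IsWeightedHomogeneous (wz g) P ((a : ℤ), (b : ℤ)) := by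
  intro d hd
  rw [weight_wz, h hd]

lemma eq_zero_of_neg {P : RelRing g} {D : ℤ × ℤ} (h : IsWeightedHomogeneous (wz g) P D)
    (hD : D.1 < 0) : P = 0 := by
  ext d
  by_contra hd
  rw [coeff_zero] at hd
  have := h hd
  rw [weight_wz] at this
  rw [← this] at hD
  simp only at hD
  omega

lemma hom_xv (i j : ℤ) : IsWeightedHomogeneous (wz g) (xv g i j) (i, j) := by
  unfold xv
  split_ifs with h h'
  · obtain ⟨rfl, rfl⟩ := h
    rw [← map_natCast (C : ℚ →+* RelRing g)]
    exact isWeightedHomogeneous_C _ _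
  · have := isWeightedHomogeneous_X ℚ (wz g) (some ⟨(i.toNat, j.toNat), h'.2.2⟩)
    simpa [wz, wt, Int.toNat_of_nonneg h'.1, Int.toNat_of_nonneg h'.2.1] using this
  · exact isWeightedHomogeneous_zero _ _ _

lemma hom_dv {P : RelRing g} {D : ℤ × ℤ} (h : IsWeightedHomogeneous (wz g) P D) (p : ℕ × ℕ) :
    IsWeightedHomogeneous (wz g) (dv g p P) (D.1 - p.1, D.2 - p.2) := by
  unfold dv
  split_ifs with hp
  · refine h.pderiv ?_
    ext <;> simp [wz, wt]
  · exact isWeightedHomogeneous_zero _ _ _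

lemma hom_F {P : RelRing g} {D : ℤ × ℤ} (h : IsWeightedHomogeneous (wz g) P D) :
    IsWeightedHomogeneous (wz g) (F g P) (D.1 - 2, D.2) := by
  have hy : IsWeightedHomogeneous (wz g) (X none : RelRing g) ((0 : ℤ), (2 : ℤ)) := by
    simpa [wz, wt] using isWeightedHomogeneous_X ℚ (wz g) (none : Var g)
  have hnat : ∀ (c : ℕ), IsWeightedHomogeneous (wz g) (c : RelRing g) (0 : ℤ × ℤ) := fun c => by
    rw [← map_natCast (C : ℚ →+* RelRing g)]; exact isWeightedHomogeneous_C _ _
  unfold F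
  refine IsWeightedHomogeneous.add ?_ ?_
  · rw [MvPolynomial.smul_eq_C_mul]
    rw [show (D.1 - 2, D.2) = (0 : ℤ × ℤ) + (D.1 - 2, D.2) by simp]
    refine (isWeightedHomogeneous_C _ _).mul ?_
    refine IsWeightedHomogeneous.sum _ _ _ fun p _ => IsWeightedHomogeneous.sum _ _ _ fun q _ => ?_
    have h2 := hom_dv (hom_dv h q) p
    rw [show (D.1 - 2, D.2) = ((p.1 : ℤ) + q.1 - 2, (p.2 : ℤ) + q.2) +
      (D.1 - (q.1 : ℤ) - p.1, D.2 - (q.2 : ℤ) - p.2) by ext <;> simp <;> ring]
    refine IsWeightedHomogeneous.mul ?_ h2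
    refine IsWeightedHomogeneous.sub ?_ ?_
    · rw [show ((p.1 : ℤ) + q.1 - 2, (p.2 : ℤ) + q.2) =
        ((0 : ℤ), (2 : ℤ)) + ((p.1 : ℤ) - 1, (p.2 : ℤ) - 1) + ((q.1 : ℤ) - 1, (q.2 : ℤ) - 1) by
          ext <;> simp <;> ring]
      exact (hy.mul (hom_xv _ _)).mul (hom_xv _ _)
    · rw [show ((p.1 : ℤ) + q.1 - 2, (p.2 : ℤ) + q.2) =
        (0 : ℤ × ℤ) + ((p.1 : ℤ) + q.1 - 2, (p.2 : ℤ) + q.2) by simp]
      exact (hnat _).mul (hom_xv _ _)
  · refine IsWeightedHomogeneous.sum _ _ _ fun p _ => ?_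
    rw [show (D.1 - 2, D.2) = ((p.1 : ℤ) - 2, (p.2 : ℤ)) + (D.1 - (p.1 : ℤ), D.2 - (p.2 : ℤ)) by
      ext <;> simp]
    exact (hom_xv _ _).mul (hom_dv h p)

lemma hom_iterate {P : RelRing g} {D : ℤ × ℤ} (h : IsWeightedHomogeneous (wz g) P D) (m : ℕ) :
    IsWeightedHomogeneous (wz g) ((F g)^[m] P) (D.1 - 2 * m, D.2) := by
  induction m with
  | zero => simpa using h
  | succ m ih =>
    rw [Function.iterate_succ_apply']
    have := hom_F ih
    convert this using 2
    push_cast; ring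

lemma dv_add (p : ℕ × ℕ) (P Q : RelRing g) : dv g p (P + Q) = dv g p P + dv g p Q := by
  unfold dv; split_ifs <;> simp

lemma dv_smul (p : ℕ × ℕ) (c : ℚ) (P : RelRing g) : dv g p (c • P) = c • dv g p P := by
  unfold dv; split_ifs <;> simp

lemma F_add (P Q : RelRing g) : F g (P + Q) = F g P + F g Q := by
  simp only [F, dv_add, mul_add, Finset.sum_add_distrib, smul_add]
  abel

lemma F_smul (c : ℚ) (P : RelRing g) : F g (c • P) = c • F g P := by
  simp only [F, dv_smul, mul_smul_comm, ← Finset.smul_sum, smul_add]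
  rw [smul_comm c]

lemma F_zero : F g (0 : RelRing g) = 0 := by
  simpa using F_smul (g := g) 0 0

lemma valid_two_zero (hg : 1 ≤ g) : Valid g (2, 0) := by
  refine ⟨le_rfl, by omega, by decide, by simp⟩

lemma mem_idx {p : ℕ × ℕ} (hp : Valid g p) : p ∈ idx g := by
  obtain ⟨a, b⟩ := p
  obtain ⟨h1, h2, -, -⟩ := hp
  simp only [idx, Finset.mem_product, Finset.mem_range]
  omega

noncomputable instance varFintype : Fintype {p : ℕ × ℕ // Valid g p} :=
  Fintype.subtype ((idx g).filter (Valid g))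
    (fun p => ⟨fun hp => (Finset.mem_filter.1 hp).2, fun hp => Finset.mem_filter.2 ⟨mem_idx hp, hp⟩⟩)

lemma dv_x_mul (hg : 1 ≤ g) (p : ℕ × ℕ) (β : RelRing g) :
    dv g p (xv g 2 0 * β) = (if p = (2, 0) then β else 0) + xv g 2 0 * dv g p β := by
  have hx : xv g 2 0 = X (some ⟨(2, 0), valid_two_zero hg⟩) := by
    have hne : ¬ ((2 : ℤ) = 0 ∧ (0 : ℤ) = 0) := by simp
    simp [xv, valid_two_zero hg]
  by_cases hp : Valid g p
  · simp only [dv, dif_pos hp]
    rw [hx, pderiv_mul]
    by_cases e : p = (2, 0)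
    · subst e; simp
    · rw [pderiv_X_of_ne]
      · simp [e]
      · simp only [ne_eq, Option.some.injEq, Subtype.mk.injEq]
        exact fun h => e h.symm
  · simp only [dv, dif_neg hp, mul_zero, add_zero]
    rw [if_neg]
    rintro rfl; exact hp (valid_two_zero hg)

/-- Euler's identity in the form needed. -/
lemma sum_weight_dv {β : RelRing g} {D : ℤ × ℤ} (h : IsWeightedHomogeneous (wz g) β D) :
    ∑ q ∈ idx g, (q.1 : RelRing g) * xv g q.1 q.2 * dv g q β = (D.1 : RelRing g) * β := by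
  rcases eq_or_ne β 0 with rfl | hβ
  · refine (Finset.sum_eq_zero fun q _ => ?_).trans (by simp)
    simp [dv]
  obtain ⟨d, hd⟩ := exists_coeff_ne_zero hβ
  have hD : D.1 = (((Finsupp.weight (wt g) d).1 : ℕ) : ℤ) := by
    rw [← h hd, weight_wz]
  have h1 : IsWeightedHomogeneous (fun v => (wt g v).1) β (Finsupp.weight (wt g) d).1 := by
    intro e he
    have := (h he).trans (h hd).symm
    rw [weight_wz, weight_wz, Prod.ext_iff] at this
    have h2 : ∀ e : Var g →₀ ℕ, Finsupp.weight (fun v => (wt g v).1) e = (Finsupp.weight (wt g) e).1 := by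
      intro e
      induction e using Finsupp.induction_linear with
      | zero => simp
      | add a b ha hb => rw [map_add, map_add, ha, hb]; simp
      | single v n => simp [Finsupp.weight_apply]
    rw [h2]
    exact Int.ofNat_inj.mp this.1
  rw [hD, Int.cast_natCast, ← nsmul_eq_mul, ← h1.sum_weight_X_mul_pderiv, Fintype.sum_option]
  simp only [wt, zero_smul, zero_add]
  rw [← Finset.sum_subset (Finset.filter_subset (Valid g) (idx g))]
  · rw [Finset.sum_subtype (Finset.filter (Valid g) (idx g))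
      (fun p => ⟨fun hp => (Finset.mem_filter.1 hp).2, fun hp => Finset.mem_filter.2 ⟨mem_idx hp, hp⟩⟩)
      (fun p => (p.1 : RelRing g) * xv g p.1 p.2 * dv g p β)]
    refine Finset.sum_congr rfl fun p _ => ?_
    obtain ⟨⟨a, b⟩, hp⟩ := p
    have hne : ¬(a = 0 ∧ b = 0) := by
      have := hp.2.2.2
      simp only [ne_eq, Prod.mk.injEq] at this
      omega
    simp [dv, hp, xv, hne, nsmul_eq_mul, mul_assoc]
  · intro p hp hnp
    have : ¬ Valid g p := fun hv => hnp (Finset.mem_filter.2 ⟨hp, hv⟩)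
    simp [dv, this]

lemma mergeCoeff_two (k : ℕ) : mergeCoeff 2 k = k ∧ mergeCoeff k 2 = k := by
  rcases k with _ | k
  · simp [mergeCoeff]
  · constructor
    · simp [mergeCoeff]
    · simp [mergeCoeff, Nat.choose_succ_self_right]

lemma F_mul_x (hg : 1 ≤ g) {β : RelRing g} {D : ℤ × ℤ} (h : IsWeightedHomogeneous (wz g) β D) :
    F g (xv g 2 0 * β) = xv g 2 0 * F g β + ((g : ℚ) - D.1) • β := by
  have h10 : xv g 1 (-1) = 0 := by simp [xv]
  have h00 : xv g 0 0 = (g : RelRing g) := by simp [xv]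
  set c : ℕ × ℕ → ℕ × ℕ → RelRing g := fun p q =>
    X none * xv g ((p.1 : ℤ) - 1) ((p.2 : ℤ) - 1) * xv g ((q.1 : ℤ) - 1) ((q.2 : ℤ) - 1)
      - (mergeCoeff p.1 q.1 : RelRing g) * xv g ((p.1 : ℤ) + q.1 - 2) ((p.2 : ℤ) + q.2) with hc
  have hF : ∀ P, F g P = (1 / 2 : ℚ) • (∑ p ∈ idx g, ∑ q ∈ idx g, c p q * dv g p (dv g q P))
      + ∑ p ∈ idx g, xv g ((p.1 : ℤ) - 2) (p.2 : ℤ) * dv g p P := fun P => rfl
  have c1 : ∀ q, c (2, 0) q = -((q.1 : RelRing g) * xv g q.1 q.2) := fun q => by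
    simp [hc, h10, (mergeCoeff_two q.1).1]
  have c2 : ∀ p, c p (2, 0) = -((p.1 : RelRing g) * xv g p.1 p.2) := fun p => by
    simp [hc, h10, (mergeCoeff_two p.1).2]
  have h20 := mem_idx (valid_two_zero hg)
  have e2 : ∀ p q, dv g p (dv g q (xv g 2 0 * β)) =
      (if q = (2, 0) then dv g p β else 0) + (if p = (2, 0) then dv g q β else 0)
        + xv g 2 0 * dv g p (dv g q β) := by
    intro p q
    rw [dv_x_mul hg, dv_add, dv_x_mul hg, add_assoc]
    congr 1
    split_ifs
    · rfl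
    · simp [dv]
  have s1 : ∑ p ∈ idx g, ∑ q ∈ idx g, c p q * dv g p (dv g q (xv g 2 0 * β)) =
      -((D.1 : RelRing g) * β) + -((D.1 : RelRing g) * β) +
        xv g 2 0 * ∑ p ∈ idx g, ∑ q ∈ idx g, c p q * dv g p (dv g q β) := by
    simp only [e2, mul_add, Finset.sum_add_distrib]
    congr 1
    · congr 1
      · simp only [mul_ite, mul_zero, Finset.sum_ite_eq', h20, if_true, c2, neg_mul,
          Finset.sum_neg_distrib, sum_weight_dv h]
      · rw [Finset.sum_comm]
        simp only [mul_ite, mul_zero, Finset.sum_ite_eq', h20, if_true, c1, neg_mul,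
          Finset.sum_neg_distrib, sum_weight_dv h]
    · simp only [Finset.mul_sum]
      exact Finset.sum_congr rfl fun p _ => Finset.sum_congr rfl fun q _ => by ring
  have s2 : ∑ p ∈ idx g, xv g ((p.1 : ℤ) - 2) (p.2 : ℤ) * dv g p (xv g 2 0 * β) =
      (g : RelRing g) * β + xv g 2 0 * ∑ p ∈ idx g, xv g ((p.1 : ℤ) - 2) (p.2 : ℤ) * dv g p β := by
    simp only [dv_x_mul hg, mul_add, Finset.sum_add_distrib, mul_ite, mul_zero, Finset.sum_ite_eq',
      h20, if_true, Finset.mul_sum]
    simp only [h00, Nat.cast_ofNat, sub_self, CharP.cast_eq_zero, add_right_inj]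
    exact Finset.sum_congr rfl fun p _ => by ring
  rw [hF, hF, s1, s2]
  simp only [MvPolynomial.smul_eq_C_mul, map_sub, map_natCast, map_intCast]
  have hC : (C (1 / 2 : ℚ) : RelRing g) * 2 = 1 := by
    rw [← map_ofNat (C : ℚ →+* RelRing g) 2, ← map_mul]
    norm_num
  linear_combination (-(D.1 : RelRing g) * β) * hC

/-- The commutation rule for iterates. -/
lemma iterate_mul_x (hg : 1 ≤ g) {β : RelRing g} {D : ℤ × ℤ} (h : IsWeightedHomogeneous (wz g) β D)
    (m : ℕ) : (F g)^[m + 1] (xv g 2 0 * β) = xv g 2 0 * (F g)^[m + 1] β +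
      (((m : ℚ) + 1) * ((g : ℚ) - D.1 + m)) • (F g)^[m] β := by
  induction m with
  | zero => simpa using F_mul_x hg h
  | succ m ih =>
    rw [Function.iterate_succ_apply', ih, F_add, F_smul, F_mul_x hg (hom_iterate h (m + 1)),
      ← Function.iterate_succ_apply' (F g) (m + 1), ← Function.iterate_succ_apply' (F g) m,
      add_assoc, ← add_smul]
    congr 2
    push_cast
    ring

theorem iterate_E_eq_zero (hg : 1 ≤ g) {β : RelRing g} {D : ℤ × ℤ}
    (h : IsWeightedHomogeneous (wz g) β D) (hD : D.1 = 2 * g) (t : ℕ) :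
    (F g)^[g + 1 + t] (xv g 2 0 ^ (t + 1) * β) = 0 := by
  induction t with
  | zero =>
    rw [pow_one, add_zero, iterate_mul_x hg h g,
      eq_zero_of_neg (hom_iterate h (g + 1)) (by simp [hD]), mul_zero, zero_add]
    simp [hD]; ring_nf; simp
  | succ t ih =>
    have hx : IsWeightedHomogeneous (wz g) (xv g 2 0 ^ (t + 1) * β) (2 * ((t : ℤ) + 1) + D.1, D.2) := by
      have := ((hom_xv (g := g) 2 0).pow (t + 1)).mul h
      convert this using 1
      refine Prod.ext ?_ ?_ <;> simp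
      ring
    rw [show g + 1 + (t + 1) = g + 1 + t + 1 by omega, pow_succ', mul_assoc, iterate_mul_x hg hx,
      eq_zero_of_neg (hom_iterate hx _) (by simp [hD]; omega), ih]
    simp

lemma snd_bound {v : Var g} :
    (v = none ∨ (wt g v).1 ≤ 3 * (wt g v).2 ∨ wt g v = (2, 0)) := by
  rcases v with _ | ⟨⟨a, b⟩, h⟩
  · exact Or.inl rfl
  · refine Or.inr ?_
    obtain ⟨h1, h2, h3, h4⟩ := h
    simp only [wt, ne_eq, Prod.mk.injEq] at *
    rcases Nat.even_iff.1 h3 with h5
    omega

theorem eq_zero_of_mem_relIdeal (hg : 1 ≤ g) {n : ℕ} (hn : 3 * n ≤ 2 * g) {P : RelRing g}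
    (hP : P ∈ relIdeal g) (hhom : IsWeightedHomogeneous (wt g) P ((0, n) : ℕ × ℕ)) : P = 0 := by
  suffices key : ∀ e : Var g →₀ ℕ, (Finsupp.weight (wt g) e).1 = 0 →
      (Finsupp.weight (wt g) e).2 ≤ n → coeff e P = 0 by
    ext e
    rw [coeff_zero]
    by_contra he
    have := hhom he
    exact he (key e (by rw [this]) (by rw [this]))
  clear hhom
  refine Submodule.span_induction ?_ ?_ ?_ ?_ hP
  · rintro _ ⟨d, m, hd, rfl⟩ e he1 he2
    by_contra hne
    have hM : IsWeightedHomogeneous (wz g) (monomial d (1 : ℚ)) (Finsupp.weight (wz g) d) :=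
      isWeightedHomogeneous_monomial _ _ _ rfl
    have h1 := (hom_iterate hM m) hne
    rw [weight_wz, weight_wz, Prod.ext_iff] at h1
    simp only [he1] at h1
    obtain ⟨hm, hn'⟩ := h1
    -- the multiplicity of the variable of bidegree (2, 0)
    let v₀ : Var g := some ⟨(2, 0), valid_two_zero hg⟩
    have hw : (Finsupp.weight (wt g) (d.erase v₀)).1 ≤ 3 * (Finsupp.weight (wt g) (d.erase v₀)).2 := by
      rw [Finsupp.weight_apply, Finsupp.sum, Prod.fst_sum, Prod.snd_sum, Finset.mul_sum]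
      refine Finset.sum_le_sum fun v hv => ?_
      rw [Finsupp.support_erase, Finset.mem_erase] at hv
      simp only [Prod.smul_fst, Prod.smul_snd, smul_eq_mul]
      rcases snd_bound (v := v) with rfl | h | h
      · simp [wt]
      · calc _ ≤ (d.erase v₀) v * (3 * (wt g v).2) := Nat.mul_le_mul le_rfl h
          _ = _ := by ring
      · exfalso
        rcases v with _ | ⟨p, hp⟩
        · simp [wt] at h
        · exact hv.1 (by simp only [wt] at h; simp [v₀, h])
    have hsplit : Finsupp.weight (wt g) d =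
        d v₀ • ((2, 0) : ℕ × ℕ) + Finsupp.weight (wt g) (d.erase v₀) := by
      conv_lhs => rw [← Finsupp.single_add_erase v₀ d]
      rw [map_add, Finsupp.weight_apply, Finsupp.sum_single_index] <;> simp [v₀, wt]
    have s1 := congrArg Prod.fst hsplit
    have s2 := congrArg Prod.snd hsplit
    simp only [Prod.fst_add, Prod.snd_add, Prod.smul_mk, smul_eq_mul] at s1 s2
    have hn2 : (Finsupp.weight (wt g) e).2 = (Finsupp.weight (wt g) d).2 := by exact_mod_cast hn'
    have hm2 : (Finsupp.weight (wt g) d).1 = 2 * m := by omega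
    obtain ⟨t, rfl⟩ : ∃ t, m = g + 1 + t := ⟨m - (g + 1), by omega⟩
    obtain ⟨a, ha⟩ : ∃ a, d v₀ = (t + 1) + a := ⟨d v₀ - (t + 1), by omega⟩
    refine hne ?_
    have hd' : d = Finsupp.single v₀ (t + 1) + (Finsupp.single v₀ a + d.erase v₀) := by
      rw [← add_assoc, ← Finsupp.single_add, ← ha, Finsupp.single_add_erase]
    have hx : (X v₀ : RelRing g) = xv g 2 0 := by simp [v₀, xv, valid_two_zero hg]
    conv_lhs => rw [hd']
    rw [monomial_single_add, hx, iterate_E_eq_zero hg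
      (isWeightedHomogeneous_monomial (wz g) _ _ rfl) ?_ t, coeff_zero]
    rw [weight_wz, map_add, Finsupp.weight_apply, Finsupp.sum_single_index] <;> simp [v₀, wt]
    simp only [v₀] at *
    omega
  · intro e _ _; exact coeff_zero e
  · intro a b _ _ ha hb e h1 h2
    rw [coeff_add, ha e h1 h2, hb e h1 h2, add_zero]
  · intro q x _ hx e h1 h2
    rw [smul_eq_mul, coeff_mul]
    refine Finset.sum_eq_zero fun ab hab => ?_
    rw [Finset.mem_antidiagonal] at hab
    subst hab
    rw [map_add, Prod.fst_add] at h1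
    rw [map_add, Prod.snd_add] at h2
    rw [hx ab.2 (by omega) (by omega), mul_zero]

end Groth.Agent.TautJac
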