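import Groth.Agent.TautJac.Basic
import Mathlib.RingTheory.Ideal.Quotient.Operations

/-!
A sign-definite reduction of the operator `F` and elimination of the high generators.
-/

open MvPolynomial W4c3tautjacobian

namespace Groth.Agent.TautJac

variable {g : ℕ}

/-- An exponent involving only variables with positive second index. -/
def Good (e : Var g →₀ ℕ) : Prop := ∀ v ∈ e.support, v ≠ none ∧ 1 ≤ (wt g v).2

/-- The sign attached to an exponent. -/
noncomputable def sgn (e : Var g →₀ ℕ) : ℚ := (-1) ^ e.degree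

lemma sgn_sq (e : Var g →₀ ℕ) : sgn e * sgn e = 1 := by
  simp [sgn, ← mul_pow]

/-- The signed coefficient. -/
noncomputable def val (e : Var g →₀ ℕ) (P : RelRing g) : ℚ := sgn e * coeff e P

lemma val_add (e : Var g →₀ ℕ) (P Q : RelRing g) : val e (P + Q) = val e P + val e Q := by
  simp [val, mul_add]

lemma val_smul (e : Var g →₀ ℕ) (c : ℚ) (P : RelRing g) : val e (c • P) = c * val e P := by
  simp [val]; ring

lemma val_sum {ι : Type*} (s : Finset ι) (e : Var g →₀ ℕ) (P : ι → RelRing g) :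
    val e (∑ i ∈ s, P i) = ∑ i ∈ s, val e (P i) := by
  simp [val, coeff_sum, Finset.mul_sum]

/-- Modulo the symbol `y`, all signed coefficients are nonnegative and live on good exponents. -/
def Pos (P : RelRing g) : Prop :=
  ∀ e, e none = 0 → 0 ≤ val e P ∧ (coeff e P ≠ 0 → Good e)

lemma pos_zero : Pos (0 : RelRing g) := fun e _ => by simp [val]

lemma Pos.add {P Q : RelRing g} (hP : Pos P) (hQ : Pos Q) : Pos (P + Q) := fun e he => by
  refine ⟨by rw [val_add]; exact add_nonneg (hP e he).1 (hQ e he).1, fun h => ?_⟩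
  rw [coeff_add] at h
  by_cases h1 : coeff e P = 0
  · exact (hQ e he).2 (by simpa [h1] using h)
  · exact (hP e he).2 h1

lemma Pos.smul {P : RelRing g} (hP : Pos P) {c : ℚ} (hc : 0 ≤ c) : Pos (c • P) := fun e he =>
  ⟨by rw [val_smul]; exact mul_nonneg hc (hP e he).1,
    fun h => (hP e he).2 fun h0 => h (by simp [h0])⟩

lemma Pos.sum {ι : Type*} (s : Finset ι) {P : ι → RelRing g} (h : ∀ i ∈ s, Pos (P i)) :
    Pos (∑ i ∈ s, P i) := by
  classical
  induction s using Finset.induction_on with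
  | empty => simpa using pos_zero
  | insert a s ha ih =>
    rw [Finset.sum_insert ha]
    exact (h a (Finset.mem_insert_self _ _)).add (ih fun i hi => h i (Finset.mem_insert_of_mem hi))

lemma coeff_X_none_mul (Q : RelRing g) (e : Var g →₀ ℕ) (he : e none = 0) :
    coeff e (X none * Q) = 0 := by
  rw [coeff_X_mul']
  simp [he]

lemma dv_monomial (p : ℕ × ℕ) (hp : Valid g p) (e : Var g →₀ ℕ) (c : ℚ) :
    dv g p (monomial e c) = monomial (e - Finsupp.single (some ⟨p, hp⟩ : Var g) 1) (c * e (some ⟨p, hp⟩ : Var g)) := by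
  simp [dv, hp, pderiv_monomial]

/-- The summands of the reduced operator. -/
noncomputable def mergeTerm (g : ℕ) (p q : ℕ × ℕ) (P : RelRing g) : RelRing g :=
  (X none * xv g ((p.1 : ℤ) - 1) ((p.2 : ℤ) - 1) * xv g ((q.1 : ℤ) - 1) ((q.2 : ℤ) - 1)
    - (mergeCoeff p.1 q.1 : RelRing g) * xv g ((p.1 : ℤ) + q.1 - 2) ((p.2 : ℤ) + q.2))
    * dv g p (dv g q P)

noncomputable def lowerTerm (g : ℕ) (p : ℕ × ℕ) (P : RelRing g) : RelRing g :=
  xv g ((p.1 : ℤ) - 2) (p.2 : ℤ) * dv g p P

lemma F_eq (P : RelRing g) :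
    F g P = (1 / 2 : ℚ) • (∑ p ∈ idx g, ∑ q ∈ idx g, mergeTerm g p q P)
      + ∑ p ∈ idx g, lowerTerm g p P := rfl

lemma xv_good (a b : ℤ) (hb : 1 ≤ b) :
    xv g a b = 0 ∨ ∃ (p : ℕ × ℕ) (hp : Valid g p), (p.1 : ℤ) = a ∧ (p.2 : ℤ) = b ∧
      xv g a b = X (some ⟨p, hp⟩ : Var g) := by
  unfold xv
  split_ifs with h h'
  · omega
  · exact Or.inr ⟨_, h'.2.2, Int.toNat_of_nonneg h'.1, Int.toNat_of_nonneg h'.2.1, rfl⟩
  · exact Or.inl rfl

lemma good_sub {e : Var g →₀ ℕ} (he : Good e) (f : Var g →₀ ℕ) : Good (e - f) := fun v hv => by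
  apply he v
  simp only [Finsupp.mem_support_iff, Finsupp.coe_tsub, Pi.sub_apply] at hv ⊢
  omega

lemma good_add_single {e : Var g →₀ ℕ} (he : Good e) {p : ℕ × ℕ} (hp : Valid g p) (h : 1 ≤ p.2) :
    Good (Finsupp.single (some ⟨p, hp⟩ : Var g) 1 + e) := fun v hv => by
  classical
  rcases Finset.mem_union.1 (Finsupp.support_add hv) with h1 | h1
  · have := Finsupp.support_single_subset h1
    rw [Finset.mem_singleton] at this
    subst this
    exact ⟨by simp, h⟩
  · exact he v h1

lemma pos_monomial {e : Var g →₀ ℕ} (he : Good e) {c : ℚ} (hc : 0 ≤ sgn e * c) :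
    Pos (monomial e c) := fun f _ => by
  classical
  by_cases h : e = f
  · subst h; exact ⟨by simpa [val] using hc, fun _ => he⟩
  · simp [val, coeff_monomial, h]

lemma none_eq_zero {e : Var g →₀ ℕ} (he : Good e) : e none = 0 := by
  by_contra h
  exact (he none (Finsupp.mem_support_iff.2 h)).1 rfl

lemma degree_sub_single {e : Var g →₀ ℕ} {v : Var g} (h : e v ≠ 0) :
    e.degree = (e - Finsupp.single v 1).degree + 1 := by
  conv_lhs => rw [← tsub_add_cancel_of_le (Finsupp.single_le_iff.2 (Nat.one_le_iff_ne_zero.2 h))]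
  rw [map_add, Finsupp.degree_single]

lemma pos_lowerTerm {e : Var g →₀ ℕ} (he : Good e) (p : ℕ × ℕ) :
    Pos (lowerTerm g p (monomial e (sgn e))) := by
  by_cases hp : Valid g p
  swap
  · simp [lowerTerm, dv, hp, pos_zero]
  rw [lowerTerm, dv_monomial p hp]
  by_cases hv : e (some ⟨p, hp⟩ : Var g) = 0
  · simp [hv, pos_zero]
  have hj : 1 ≤ p.2 := (he _ (Finsupp.mem_support_iff.2 hv)).2
  rcases xv_good (g := g) ((p.1 : ℤ) - 2) p.2 (by omega) with h | ⟨r, hr, -, hr2, h⟩
  · simp [h, pos_zero]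
  rw [h, X, monomial_mul, one_mul]
  refine pos_monomial (good_add_single (good_sub he _) hr (by omega)) ?_
  have : sgn (Finsupp.single (some ⟨r, hr⟩ : Var g) 1 + (e - Finsupp.single (some ⟨p, hp⟩ : Var g) 1)) = sgn e := by
    rw [sgn, sgn, map_add, Finsupp.degree_single, degree_sub_single hv, add_comm]
  rw [this, ← mul_assoc, sgn_sq, one_mul]
  positivity

lemma val_lowerTerm {e : Var g →₀ ℕ} (p r : ℕ × ℕ) (hp : Valid g p) (hr : Valid g r)
    (h : xv g ((p.1 : ℤ) - 2) p.2 = X (some ⟨r, hr⟩ : Var g)) (hv : e (some ⟨p, hp⟩ : Var g) ≠ 0) :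
    0 < val (Finsupp.single (some ⟨r, hr⟩ : Var g) 1 + (e - Finsupp.single (some ⟨p, hp⟩ : Var g) 1))
      (lowerTerm g p (monomial e (sgn e))) := by
  classical
  rw [lowerTerm, dv_monomial p hp, h, X, monomial_mul, one_mul, val, coeff_monomial, if_pos rfl]
  have : sgn (Finsupp.single (some ⟨r, hr⟩ : Var g) 1 + (e - Finsupp.single (some ⟨p, hp⟩ : Var g) 1)) = sgn e := by
    rw [sgn, sgn, map_add, Finsupp.degree_single, degree_sub_single hv, add_comm]
  rw [this, ← mul_assoc, sgn_sq, one_mul]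
  exact_mod_cast Nat.pos_of_ne_zero hv

lemma mergeTerm_monomial (e : Var g →₀ ℕ) (c : ℚ) (p q : ℕ × ℕ) (hp : Valid g p) (hq : Valid g q)
    (f : Var g →₀ ℕ) (hf : f none = 0) :
    coeff f (mergeTerm g p q (monomial e c)) =
      -((mergeCoeff p.1 q.1 : ℚ) * coeff f (xv g ((p.1 : ℤ) + q.1 - 2) ((p.2 : ℤ) + q.2) *
        monomial (e - Finsupp.single (some ⟨q, hq⟩ : Var g) 1 - Finsupp.single (some ⟨p, hp⟩ : Var g) 1)
          (c * e (some ⟨q, hq⟩ : Var g) * ((e - Finsupp.single (some ⟨q, hq⟩ : Var g) 1 : Var g →₀ ℕ) (some ⟨p, hp⟩ : Var g) : ℕ)))) := by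
  rw [mergeTerm, dv_monomial q hq, dv_monomial p hp, sub_mul, coeff_sub, mul_assoc, mul_assoc,
    coeff_X_none_mul _ _ hf, zero_sub, mul_assoc, ← map_natCast (C : ℚ →+* RelRing g), coeff_C_mul]

lemma sgn_merge {e : Var g →₀ ℕ} {a b r : Var g} (hb : e b ≠ 0)
    (ha : (e - Finsupp.single b 1 : Var g →₀ ℕ) a ≠ 0) :
    sgn (Finsupp.single r 1 + (e - Finsupp.single b 1 - Finsupp.single a 1)) = -sgn e := by
  rw [sgn, sgn, map_add, Finsupp.degree_single, degree_sub_single hb, degree_sub_single ha,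
    pow_succ _ (_ + 1), add_comm]
  ring

lemma pos_mergeTerm {e : Var g →₀ ℕ} (he : Good e) (p q : ℕ × ℕ) :
    Pos (mergeTerm g p q (monomial e (sgn e))) := by
  classical
  intro f hf
  by_cases hq : Valid g q
  swap
  · simp [mergeTerm, dv, hq, val]
  by_cases hp : Valid g p
  swap
  · simp [mergeTerm, dv, hp, val]
  rw [val, mergeTerm_monomial e _ p q hp hq f hf]
  by_cases hb : e (some ⟨q, hq⟩ : Var g) = 0
  · simp [hb]
  by_cases ha : (e - Finsupp.single (some ⟨q, hq⟩ : Var g) 1 : Var g →₀ ℕ) (some ⟨p, hp⟩ : Var g) = 0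
  · simp [ha]
  have hq1 : 1 ≤ q.2 := (he _ (Finsupp.mem_support_iff.2 hb)).2
  rcases xv_good (g := g) ((p.1 : ℤ) + q.1 - 2) ((p.2 : ℤ) + q.2) (by omega) with
    h | ⟨r, hr, -, hr2, h⟩
  · simp [h]
  rw [h, X, monomial_mul, one_mul, coeff_monomial]
  split_ifs with hef
  · subst hef
    refine ⟨?_, fun _ => good_add_single (good_sub (good_sub he _) _) hr (by omega)⟩
    rw [sgn_merge hb ha]
    have h0 : (0 : ℚ) ≤ sgn e * sgn e * (mergeCoeff p.1 q.1 * (e (some ⟨q, hq⟩ : Var g) *
        ((e - Finsupp.single (some ⟨q, hq⟩ : Var g) 1 : Var g →₀ ℕ) (some ⟨p, hp⟩ : Var g) : ℕ))) :=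
      mul_nonneg (by rw [sgn_sq]; exact zero_le_one) (by positivity)
    linarith
  · simp

lemma val_mergeTerm {e : Var g →₀ ℕ} (p q r : ℕ × ℕ) (hp : Valid g p) (hq : Valid g q)
    (hr : Valid g r) (h : xv g ((p.1 : ℤ) + q.1 - 2) ((p.2 : ℤ) + q.2) = X (some ⟨r, hr⟩ : Var g))
    (hm : 0 < mergeCoeff p.1 q.1) (hb : e (some ⟨q, hq⟩ : Var g) ≠ 0)
    (ha : (e - Finsupp.single (some ⟨q, hq⟩ : Var g) 1 : Var g →₀ ℕ) (some ⟨p, hp⟩ : Var g) ≠ 0)
    (hn : e none = 0) :
    0 < val (Finsupp.single (some ⟨r, hr⟩ : Var g) 1 +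
        (e - Finsupp.single (some ⟨q, hq⟩ : Var g) 1 - Finsupp.single (some ⟨p, hp⟩ : Var g) 1))
      (mergeTerm g p q (monomial e (sgn e))) := by
  classical
  rw [val, mergeTerm_monomial e _ p q hp hq _ (by simp [hn]), h, X, monomial_mul, one_mul,
    coeff_monomial, if_pos rfl, sgn_merge hb ha]
  have h0 : (0 : ℚ) < sgn e * sgn e * (mergeCoeff p.1 q.1 * (e (some ⟨q, hq⟩ : Var g) *
      ((e - Finsupp.single (some ⟨q, hq⟩ : Var g) 1 : Var g →₀ ℕ) (some ⟨p, hp⟩ : Var g) : ℕ))) := by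
    rw [sgn_sq, one_mul]
    have h1 : (0 : ℚ) < mergeCoeff p.1 q.1 := by exact_mod_cast hm
    have h2 : (0 : ℚ) < e (some ⟨q, hq⟩ : Var g) := by exact_mod_cast Nat.pos_of_ne_zero hb
    have h3 : (0 : ℚ) < ((e - Finsupp.single (some ⟨q, hq⟩ : Var g) 1 : Var g →₀ ℕ) (some ⟨p, hp⟩ : Var g) : ℕ) := by
      exact_mod_cast Nat.pos_of_ne_zero ha
    positivity
  linarith

lemma pos_F_monomial {e : Var g →₀ ℕ} (he : Good e) : Pos (F g (monomial e (sgn e))) := by
  rw [F_eq]
  exact ((Pos.sum _ fun p _ => Pos.sum _ fun q _ => pos_mergeTerm he p q).smul (by norm_num)).add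
    (Pos.sum _ fun p _ => pos_lowerTerm he p)

lemma coeff_F_of_none (e f : Var g →₀ ℕ) (c : ℚ) (he : e none ≠ 0) (hf : f none = 0) :
    coeff f (F g (monomial e c)) = 0 := by
  have hd : ∀ p, ∀ P : RelRing g, (∀ x, x none = 0 → coeff x P = 0) →
      ∀ x, x none = 0 → coeff x (dv g p P) = 0 := by
    intro p P hP x hx
    unfold dv
    split_ifs with hp
    · rw [coeff_pderiv, hP _ (by simp [hx]), zero_mul]
    · simp
  have hm : ∀ x : Var g →₀ ℕ, x none = 0 → coeff x (monomial e c) = 0 := by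
    classical
    intro x hx
    rw [coeff_monomial, if_neg]
    rintro rfl; exact he hx
  have hmul : ∀ Q P : RelRing g, (∀ x, x none = 0 → coeff x P = 0) → coeff f (Q * P) = 0 := by
    intro Q P hP
    rw [coeff_mul]
    refine Finset.sum_eq_zero fun ab hab => ?_
    rw [Finset.mem_antidiagonal] at hab
    rw [hP ab.2 (by have := congrArg (fun z : Var g →₀ ℕ => z none) hab; simp [hf] at this; omega),
      mul_zero]
  simp only [F_eq, coeff_add, coeff_smul, coeff_sum]
  rw [Finset.sum_eq_zero (s := idx g), Finset.sum_eq_zero (s := idx g)]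
  · simp
  · exact fun p _ => hmul _ _ (hd p _ hm)
  · exact fun p _ => Finset.sum_eq_zero fun q _ => hmul _ _ (hd p _ (hd q _ hm))

lemma F_expand (P : RelRing g) :
    F g P = ∑ e ∈ P.support, (sgn e * coeff e P) • F g (monomial e (sgn e)) := by
  let Φ : RelRing g →ₗ[ℚ] RelRing g :=
    { toFun := F g
      map_add' := F_add
      map_smul' := F_smul }
  show Φ P = _
  conv_lhs => rw [as_sum P, map_sum]
  refine Finset.sum_congr rfl fun e _ => ?_
  show Φ _ = (sgn e * coeff e P) • Φ _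
  rw [← map_smul, smul_monomial, smul_eq_mul, mul_right_comm, sgn_sq, one_mul]

lemma Pos.F {P : RelRing g} (hP : Pos P) : Pos (F g P) := by
  rw [F_expand P]
  refine Pos.sum _ fun e he => ?_
  by_cases h0 : e none = 0
  · exact (pos_F_monomial ((hP e h0).2 (mem_support_iff.1 he))).smul (hP e h0).1
  · intro f hf
    simp [val, coeff_F_of_none e f _ h0 hf]

lemma lt_val_F {P : RelRing g} (hP : Pos P) {e₀ e₁ : Var g →₀ ℕ} (h0 : Good e₀) (h1 : e₁ none = 0)
    (hv : 0 < val e₀ P) (hs : 0 < val e₁ (W4c3tautjacobian.F g (monomial e₀ (sgn e₀)))) :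
    0 < val e₁ (W4c3tautjacobian.F g P) := by
  rw [F_expand P, val_sum]
  refine Finset.sum_pos' (fun e he => ?_) ⟨e₀, ?_, ?_⟩
  · by_cases hn : e none = 0
    · exact ((pos_F_monomial ((hP e hn).2 (mem_support_iff.1 he))).smul (hP e hn).1 e₁ h1).1
    · simp [val, coeff_F_of_none e e₁ _ hn h1]
  · rw [mem_support_iff]
    intro h; simp [val, h] at hv
  · rw [val_smul]
    exact mul_pos hv hs

lemma merge_le {e : Var g →₀ ℕ} (he : Good e) {f : Var g →₀ ℕ} (hf : f none = 0) {p q : ℕ × ℕ}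
    (hp : p ∈ idx g) (hq : q ∈ idx g) (h : 0 < val f (mergeTerm g p q (monomial e (sgn e)))) :
    0 < val f (W4c3tautjacobian.F g (monomial e (sgn e))) := by
  rw [F_eq, val_add, val_smul, val_sum, val_sum]
  refine add_pos_of_pos_of_nonneg (mul_pos (by norm_num) ?_)
    (Finset.sum_nonneg fun r _ => (pos_lowerTerm he r f hf).1)
  refine Finset.sum_pos' (fun r _ => ?_) ⟨p, hp, ?_⟩
  · rw [val_sum]; exact Finset.sum_nonneg fun s _ => (pos_mergeTerm he r s f hf).1
  · rw [val_sum]
    exact Finset.sum_pos' (fun s _ => (pos_mergeTerm he p s f hf).1) ⟨q, hq, h⟩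

lemma lower_le {e : Var g →₀ ℕ} (he : Good e) {f : Var g →₀ ℕ} (hf : f none = 0) {p : ℕ × ℕ}
    (hp : p ∈ idx g) (h : 0 < val f (lowerTerm g p (monomial e (sgn e)))) :
    0 < val f (W4c3tautjacobian.F g (monomial e (sgn e))) := by
  rw [F_eq, val_add, val_smul]
  refine add_pos_of_nonneg_of_pos (mul_nonneg (by norm_num) ?_) ?_
  · exact (Pos.sum _ (fun r _ => Pos.sum _ fun s _ => pos_mergeTerm he r s) f hf).1
  · rw [val_sum]
    exact Finset.sum_pos' (fun s _ => (pos_lowerTerm he s f hf).1) ⟨p, hp, h⟩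

lemma xv_eq_X {a b : ℕ} (h : Valid g (a, b)) (x y : ℤ) (hx : x = a) (hy : y = b) :
    xv g x y = X (some ⟨(a, b), h⟩) := by
  subst hx hy
  have := h.2.2.2
  simp only [ne_eq, Prod.mk.injEq] at this
  have hne : ¬((a : ℤ) = 0 ∧ (b : ℤ) = 0) := by omega
  unfold xv
  rw [if_neg hne, dif_pos ⟨Int.natCast_nonneg _, Int.natCast_nonneg _, by simpa using h⟩]
  simp

lemma valid_merged {k : ℕ} (hk : k + 2 ≤ 2 * g) : Valid g (k + 2, k) :=
  ⟨le_rfl, hk, ⟨k + 1, by simp; ring⟩, by simp⟩

lemma exists_leading (i : ℕ) (hi : 1 ≤ i) (hig : i < g) (h02 : Valid g (0, 2 * i)) :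
    coeff (Finsupp.single (some ⟨(0, 2 * i), h02⟩) 1)
      ((W4c3tautjacobian.F g)^[3 * i] (monomial
        (Finsupp.single (some ⟨(3, 1), valid_merged (k := 1) (by omega)⟩) (2 * i)) (1 : ℚ))) ≠ 0 := by
  let v : Var g := some ⟨(3, 1), valid_merged (k := 1) (by omega)⟩
  set P₀ : RelRing g := monomial (Finsupp.single v (2 * i)) (1 : ℚ) with hP₀
  have hgv : ∀ n, Good (Finsupp.single v n : Var g →₀ ℕ) := fun n w hw => by
    have := Finsupp.support_single_subset hw
    rw [Finset.mem_singleton] at this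
    subst this
    exact ⟨by simp [v], le_rfl⟩
  have hs : sgn (Finsupp.single v (2 * i) : Var g →₀ ℕ) = 1 := by
    simp [sgn, Finsupp.degree_single, pow_mul]
  have hpos : ∀ m, Pos ((W4c3tautjacobian.F g)^[m] P₀) := by
    intro m
    induction m with
    | zero => exact pos_monomial (hgv _) (by rw [hs]; norm_num)
    | succ m ih => rw [Function.iterate_succ_apply']; exact ih.F
  have merged : ∀ k (hk : k + 1 + 2 ≤ 2 * g), k + 1 ≤ 2 * i →
      0 < val (Finsupp.single (some ⟨(k + 1 + 2, k + 1), valid_merged hk⟩) 1 +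
        Finsupp.single v (2 * i - (k + 1))) ((W4c3tautjacobian.F g)^[k] P₀) := by
    intro k
    induction k with
    | zero =>
      intro _ _
      have e : Finsupp.single v 1 + Finsupp.single v (2 * i - 1) = Finsupp.single v (2 * i) := by
        rw [← Finsupp.single_add]; congr 1; omega
      change 0 < val (Finsupp.single v 1 + Finsupp.single v (2 * i - 1)) P₀
      rw [e, val, hs, hP₀]
      simp
    | succ k ih =>
      intro hk hki
      have ih' := ih (by omega) (by omega)
      have hgood : Good (Finsupp.single (some ⟨(k + 1 + 2, k + 1), valid_merged (by omega)⟩ : Var g) 1 +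
          Finsupp.single v (2 * i - (k + 1))) := good_add_single (hgv _) _ (by simp)
      have hn2 : (Finsupp.single (some ⟨(k + 1 + 1 + 2, k + 1 + 1), valid_merged hk⟩ : Var g) 1 +
          Finsupp.single v (2 * i - (k + 1 + 1)) : Var g →₀ ℕ) none = 0 := by simp [v]
      rw [Function.iterate_succ_apply']
      refine lt_val_F (hpos k) hgood hn2 ih' ?_
      let w : Var g := some ⟨(k + 1 + 2, k + 1), valid_merged (by omega)⟩
      refine merge_le hgood hn2 (p := (k + 1 + 2, k + 1)) (q := (3, 1)) (mem_idx (valid_merged (by omega)))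
        (mem_idx (valid_merged (k := 1) (by omega))) ?_
      have hb : (Finsupp.single w 1 + Finsupp.single v (2 * i - (k + 1)) : Var g →₀ ℕ) v ≠ 0 := by
        simp; omega
      have hsub : Finsupp.single w 1 + Finsupp.single v (2 * i - (k + 1)) - Finsupp.single v 1 =
          Finsupp.single w 1 + Finsupp.single v (2 * i - (k + 1 + 1)) := by
        rw [add_tsub_assoc_of_le (Finsupp.single_le_single.2 (by omega)), ← Finsupp.single_tsub]
        congr 2
      have ha : (Finsupp.single w 1 + Finsupp.single v (2 * i - (k + 1)) - Finsupp.single v 1 : Var g →₀ ℕ) w ≠ 0 := by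
        rw [hsub]; simp
      have := val_mergeTerm (e := Finsupp.single w 1 + Finsupp.single v (2 * i - (k + 1)))
        (k + 1 + 2, k + 1) (3, 1) (k + 1 + 1 + 2, k + 1 + 1) (valid_merged (by omega))
        (valid_merged (k := 1) (by omega)) (valid_merged hk)
        (xv_eq_X (valid_merged hk) _ _ (by push_cast; ring) (by push_cast; ring))
        (by simp [mergeCoeff]; exact Nat.choose_pos (by omega)) hb ha (by simp [v, w])
      rw [hsub, add_tsub_cancel_left] at this
      exact this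
  have hvalid : ∀ s, s ≤ i + 1 → Valid g (2 * i + 2 - 2 * s, 2 * i) := fun s hs => by
    refine ⟨by simp, by simp; omega, ⟨i + 1 - s + i, by simp; omega⟩, ?_⟩
    simp only [ne_eq, Prod.mk.injEq]; omega
  have lowered : ∀ s (hs : s ≤ i + 1),
      0 < val (Finsupp.single (some ⟨(2 * i + 2 - 2 * s, 2 * i), hvalid s hs⟩) 1)
        ((W4c3tautjacobian.F g)^[2 * i - 1 + s] P₀) := by
    intro s
    induction s with
    | zero =>
      intro _
      have := merged (2 * i - 1) (by omega) (by omega)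
      rw [show 2 * i - (2 * i - 1 + 1) = 0 by omega, Finsupp.single_zero, add_zero] at this
      convert this using 6 <;> omega
    | succ s ih =>
      intro hs1
      have ih' := ih (by omega)
      let w : Var g := some ⟨(2 * i + 2 - 2 * s, 2 * i), hvalid s (by omega)⟩
      have hgood : Good (Finsupp.single w 1 : Var g →₀ ℕ) := fun x hx => by
        have := Finsupp.support_single_subset hx
        rw [Finset.mem_singleton] at this
        subst this
        exact ⟨by simp [w], by simp [w, wt]; omega⟩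
      rw [← add_assoc, Function.iterate_succ_apply']
      refine lt_val_F (hpos _) hgood (by simp) ih' ?_
      refine lower_le hgood (by simp) (p := (2 * i + 2 - 2 * s, 2 * i)) (mem_idx (hvalid s (by omega))) ?_
      have := val_lowerTerm (e := Finsupp.single w 1) (2 * i + 2 - 2 * s, 2 * i)
        (2 * i + 2 - 2 * (s + 1), 2 * i) (hvalid s (by omega)) (hvalid (s + 1) hs1)
        (xv_eq_X (hvalid (s + 1) hs1) _ _ (by simp; omega) (by simp)) (by simp [w])
      rw [show Finsupp.single w 1 - Finsupp.single (some ⟨_, hvalid s (by omega)⟩ : Var g) 1 = 0 from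
        tsub_self _, add_zero] at this
      exact this
  have := lowered (i + 1) le_rfl
  intro h
  rw [show 2 * i - 1 + (i + 1) = 3 * i by omega] at this
  have e : (⟨(2 * i + 2 - 2 * (i + 1), 2 * i), hvalid (i + 1) le_rfl⟩ : {p // Valid g p}) =
      ⟨(0, 2 * i), h02⟩ := Subtype.ext (by simp; omega)
  rw [e, val, h, mul_zero] at this
  exact lt_irrefl _ this

lemma le_weight {e : Var g →₀ ℕ} {v : Var g} (h : e v ≠ 0) :
    (wt g v).1 ≤ (Finsupp.weight (wt g) e).1 ∧ (wt g v).2 ≤ (Finsupp.weight (wt g) e).2 := by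
  rw [← Finsupp.single_add_erase v e, map_add, Finsupp.weight_apply,
    Finsupp.sum_single_index (by simp)]
  simp only [Prod.fst_add, Prod.snd_add, Prod.smul_fst, Prod.smul_snd, smul_eq_mul]
  have h1 : 1 ≤ e v := Nat.one_le_iff_ne_zero.2 h
  exact ⟨le_add_right (Nat.le_mul_of_pos_left _ h1), le_add_right (Nat.le_mul_of_pos_left _ h1)⟩

theorem exists_mem_adjoin_lowGens (i : ℕ) :
    ∃ q ∈ Algebra.adjoin ℚ (lowGens g), xv g 0 (2 * (i : ℤ)) - q ∈ relIdeal g := by
  let π := Ideal.Quotient.mkₐ ℚ (relIdeal g)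
  let K : Subalgebra ℚ (RelRing g) := ((Algebra.adjoin ℚ (lowGens g)).map π).comap π
  suffices h : xv g 0 (2 * (i : ℤ)) ∈ K by
    obtain ⟨q, hq, hq'⟩ := h
    refine ⟨q, hq, ?_⟩
    exact Ideal.Quotient.eq.1 hq'.symm
  have hA : ∀ P ∈ Algebra.adjoin ℚ (lowGens g), P ∈ K := fun P hP => ⟨P, hP, rfl⟩
  induction i using Nat.strong_induction_on with
  | _ i ih =>
  rcases Nat.eq_zero_or_pos i with rfl | hi
  · have : xv g 0 (2 * ((0 : ℕ) : ℤ)) = (g : RelRing g) := by simp [xv]
    rw [this]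
    exact natCast_mem K g
  by_cases h3 : 3 * i ≤ g
  · exact hA _ (Algebra.subset_adjoin (Or.inr ⟨i, hi, h3, rfl⟩))
  by_cases hig : g ≤ i
  · have : xv g 0 (2 * (i : ℤ)) = 0 := by
      unfold xv
      rw [if_neg (by omega), dif_neg]
      rintro ⟨-, -, -, h2, -⟩
      omega
    rw [this]; exact K.zero_mem
  have h02 : Valid g (0, 2 * i) := ⟨by simp, by simp; omega, by simp, by simp; omega⟩
  rw [xv_eq_X h02 _ _ (by simp) (by push_cast; ring)]
  have hlead := exists_leading i hi (by omega) h02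
  let d : Var g →₀ ℕ := Finsupp.single (some ⟨(3, 1), valid_merged (k := 1) (by omega)⟩) (2 * i)
  set G : RelRing g := (W4c3tautjacobian.F g)^[3 * i] (monomial d (1 : ℚ)) with hG
  have hwd : Finsupp.weight (wt g) d = ((6 * i, 2 * i) : ℕ × ℕ) := by
    simp [d, Finsupp.weight_apply, wt, Prod.ext_iff]; omega
  have hGI : G ∈ relIdeal g := Ideal.subset_span ⟨d, 3 * i, by rw [hwd]; simp; omega, rfl⟩
  have hGK : G ∈ K := ⟨0, zero_mem _, by
    show π 0 = π G
    rw [map_zero]; exact (Ideal.Quotient.eq_zero_iff_mem.2 hGI).symm⟩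
  let T : Var g →₀ ℕ := Finsupp.single (some ⟨(0, 2 * i), h02⟩) 1
  have hhom := hom_iterate (isWeightedHomogeneous_monomial (wz g) d (1 : ℚ) rfl) (3 * i)
  have hrest : ∀ e ∈ G.support, e ≠ T → monomial e (coeff e G) ∈ K := by
    intro e he hne
    have hw := hhom (mem_support_iff.1 he)
    rw [weight_wz, weight_wz, hwd, Prod.ext_iff] at hw
    simp only at hw
    have hw1 : (Finsupp.weight (wt g) e).1 = 0 := by omega
    have hw2 : (Finsupp.weight (wt g) e).2 = 2 * i := by omega
    rw [monomial_eq]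
    refine K.mul_mem (K.algebraMap_mem _) (K.prod_mem fun v hv => K.pow_mem ?_ _)
    rcases v with _ | ⟨⟨a, b⟩, hab⟩
    · exact hA _ (Algebra.subset_adjoin (Or.inl rfl))
    obtain ⟨hab1, hab2, ⟨c, hc⟩, hab4⟩ := id hab
    simp only [ne_eq, Prod.mk.injEq] at hab4 hc
    have hev := Finsupp.mem_support_iff.1 hv
    have hle := le_weight hev
    simp only [wt] at hle
    have hle1 : a ≤ 0 := hw1 ▸ hle.1
    have hle2 : b ≤ 2 * i := hw2 ▸ hle.2
    obtain rfl : a = 0 := by omega
    rcases lt_or_eq_of_le hle2 with hlt | rfl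
    · have := ih c (by omega)
      rw [xv_eq_X hab _ _ (by simp) (by push_cast; omega)] at this
      exact this
    · exfalso
      apply hne
      have hdecomp := Finsupp.single_add_erase (some ⟨(0, 2 * i), hab⟩ : Var g) e
      have hwe := congrArg (Finsupp.weight (wt g)) hdecomp
      rw [map_add, Finsupp.weight_apply, Finsupp.sum_single_index (by simp), Prod.ext_iff] at hwe
      simp [wt] at hwe
      have h0 : Finsupp.weight (wt g) (Finsupp.erase (some ⟨(0, 2 * i), hab⟩ : Var g) e) = 0 ∧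
          e (some ⟨(0, 2 * i), hab⟩) = 1 := by
        have : e (some ⟨(0, 2 * i), hab⟩) ≤ 1 := by
          by_contra hgt
          have : 2 * (2 * i) ≤ e (some ⟨(0, 2 * i), hab⟩) * (2 * i) := Nat.mul_le_mul (by omega) le_rfl
          omega
        have h1 : e (some ⟨(0, 2 * i), hab⟩) = 1 := by omega
        rw [h1] at hwe
        refine ⟨Prod.ext ?_ ?_, h1⟩ <;> simp <;> omega
      have hz : Finsupp.erase (some ⟨(0, 2 * i), hab⟩ : Var g) e = 0 := by
        ext v
        by_contra hv0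
        have := le_weight hv0
        rw [h0.1] at this
        rcases v with _ | ⟨p, hp⟩
        · exact absurd this.2 (by simp [wt])
        · exact hp.2.2.2 (Prod.ext (Nat.le_zero.1 this.1) (Nat.le_zero.1 this.2))
      rw [← hdecomp, hz, add_zero, h0.2]
  have hsplit : G = monomial T (coeff T G) + ∑ e ∈ G.support.erase T, monomial e (coeff e G) := by
    conv_lhs => rw [as_sum G]
    rw [← Finset.add_sum_erase _ _ (mem_support_iff.2 hlead)]
  have hmem : monomial T (coeff T G) ∈ K := by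
    have hs : ∑ e ∈ G.support.erase T, monomial e (coeff e G) ∈ K :=
      sum_mem fun e he => hrest e (Finset.mem_of_mem_erase he) (Finset.ne_of_mem_erase he)
    have := sub_mem hGK hs
    have e2 : G - ∑ e ∈ G.support.erase T, monomial e (coeff e G) = monomial T (coeff T G) :=
      sub_eq_iff_eq_add.2 hsplit
    rwa [e2] at this
  have := K.smul_mem hmem (coeff T G)⁻¹
  rw [smul_monomial, smul_eq_mul, inv_mul_cancel₀ hlead] at this
  exact this

end Groth.Agent.TautJac
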